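import Mathlib

/-!
# The norm map of a Lang-surjective automorphism (Shintani descent)
-/

set_option autoImplicit false

namespace Cfsg.Agent.Shintani

variable {X : Type*} [Group X] (σ : MulAut X)

theorem pow_apply_comm (i j : ℕ) (x : X) : (σ ^ i) ((σ ^ j) x) = (σ ^ j) ((σ ^ i) x) := by
  change (σ ^ i * σ ^ j) x = (σ ^ j * σ ^ i) x
  rw [(Commute.pow_pow_self σ i j).eq]

theorem pow_succ_apply (i : ℕ) (x : X) : (σ ^ (i + 1)) x = σ ((σ ^ i) x) := by
  rw [pow_succ']; rfl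

theorem pow_succ_apply' (i : ℕ) (x : X) : (σ ^ (i + 1)) x = (σ ^ i) (σ x) := by
  rw [pow_succ]; rfl

theorem mem_eqLocus_iff (τ : MulAut X) (x : X) :
    x ∈ (MulEquiv.toMonoidHom τ).eqLocus (MonoidHom.id X) ↔ τ x = x := Iff.rfl

/-- `g = a σ(a)⁻¹` is fixed by `σ ^ e` iff `σ^e(a)⁻¹ a` is fixed by `σ`. -/
theorem fixed_iff (e : ℕ) (a : X) :
    (σ ^ e) (a * (σ a)⁻¹) = a * (σ a)⁻¹ ↔ σ (((σ ^ e) a)⁻¹ * a) = ((σ ^ e) a)⁻¹ * a := by
  have h : σ ((σ ^ e) a) = (σ ^ e) (σ a) := by rw [← pow_succ_apply, pow_succ_apply']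
  rw [map_mul, map_inv, map_mul, map_inv, h]
  generalize (σ ^ e) (σ a) = B
  generalize (σ ^ e) a = A
  generalize σ a = C
  constructor
  · intro H
    calc B⁻¹ * C = A⁻¹ * (A * B⁻¹) * C := by group
      _ = A⁻¹ * a := by rw [H]; group
  · intro H
    calc A * B⁻¹ = A * (B⁻¹ * C) * C⁻¹ := by group
      _ = a * C⁻¹ := by rw [H]; group

theorem prod_eq (a : X) : ∀ d : ℕ,
    ((List.range d).map (fun i => (σ ^ i) (a * (σ a)⁻¹))).prod = a * ((σ ^ d) a)⁻¹
  | 0 => by simp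
  | d + 1 => by
    rw [List.range_succ, List.map_append, List.prod_append, prod_eq a d]
    simp only [List.map_cons, List.map_nil, List.prod_cons, List.prod_nil, mul_one, map_mul, map_inv]
    rw [pow_succ_apply']
    group

end Cfsg.Agent.Shintani
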